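import Cfsg.Agent.Lib.Recog.BitPerm.Basic

set_option autoImplicit false

/-! Bit sets of moved points (owner: helper21). -/

namespace CfsgLib.Recog.FiFour.Aut

open CfsgLib.Recog.BitPerm

/-- The points below `2 ^ B` moved by a word. -/
noncomputable def movedB (B : ℕ) (net : ℕ → List Stage) (w : List ℕ) : ℕ :=
  Nat.rec 0 (fun r D => Nat.lor D (Nat.xor (runWord net w (plane r B)) (plane r B))) B

/-- The points moved by a word, seen in `len` planes from `lo` on. -/
noncomputable def movedSeg (B : ℕ) (N : ℕ → List Stage) (w : List ℕ) (lo len : ℕ) : ℕ :=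
  Nat.rec 0 (fun r D => Nat.lor D (Nat.xor (runWord N w (plane (lo + r) B)) (plane (lo + r) B))) len

/-- Every point of `R` is in `D` or left in `R'`. -/
noncomputable def coverOK (D R R' : ℕ) : Bool := Nat.beq (Nat.lor (Nat.lor D R') R) (Nat.lor D R')

theorem cover_elim {D R R' c : ℕ} (hc : coverOK D R R' = true) (hD : D.testBit c = false)
    (hR : R'.testBit c = false) : R.testBit c = false := by
  have e : ((D ||| R') ||| R).testBit c = (D ||| R').testBit c :=
    congrArg (fun n => n.testBit c) (Nat.eq_of_beq_eq_true hc)
  rw [Nat.testBit_or, Nat.testBit_or, hD, hR] at e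
  simpa using e

theorem movedSeg_bit {B : ℕ} {N : ℕ → List Stage} {w : List ℕ} {c : ℕ}
    (h : (movedB B N w).testBit c = false) : ∀ lo len, lo + len ≤ B → (movedSeg B N w lo len).testBit c = false := by
  have key : ∀ k, (Nat.rec 0 (fun r D => Nat.lor D
      (Nat.xor (runWord N w (plane r B)) (plane r B))) k : ℕ).testBit c = false →
      ∀ r < k, (Nat.xor (runWord N w (plane r B)) (plane r B)).testBit c = false := by
    intro k
    induction k with
    | zero => intro _ r hr; omega
    | succ k ih =>
      intro hk r hr
      change ((Nat.rec 0 _ k : ℕ) ||| Nat.xor _ _).testBit c = false at hk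
      rw [Nat.testBit_or, Bool.or_eq_false_iff] at hk
      rcases Nat.lt_succ_iff_lt_or_eq.1 hr with hlt | rfl
      · exact ih hk.1 r hlt
      · exact hk.2
  intro lo len
  induction len with
  | zero => exact fun _ => Nat.zero_testBit c
  | succ k ih =>
    intro hle
    show ((movedSeg B N w lo k) ||| Nat.xor _ _).testBit c = false
    rw [Nat.testBit_or, ih (by omega), Bool.false_or]
    exact key B h (lo + k) (by omega)

variable {B : ℕ} {net : ℕ → List Stage} (hV : Valid B net)
include hV

theorem not_movedB {w : List ℕ} {c : ℕ} (h : wordPerm net w c = c) : (movedB B net w).testBit c = false := by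
  have key : ∀ k, (Nat.rec 0 (fun r D => Nat.lor D (Nat.xor (runWord net w (plane r B)) (plane r B))) k : ℕ).testBit c = false := by
    intro k
    induction k with
    | zero => exact Nat.zero_testBit c
    | succ k ihk =>
      show ((Nat.rec 0 _ k : ℕ) ||| (runWord net w (plane k B) ^^^ plane k B)).testBit c = false
      rw [Nat.testBit_or, ihk, Bool.false_or, Nat.testBit_xor, testBit_runWord hV, h, Bool.xor_self]
  exact key B

theorem fix_of_not_movedB {w : List ℕ} {c : ℕ} (hc : c < 2 ^ B) (h : (movedB B net w).testBit c = false) :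
    wordPerm net w c = c := by
  have key : ∀ k, (Nat.rec 0 (fun r D => Nat.lor D (Nat.xor (runWord net w (plane r B)) (plane r B))) k : ℕ).testBit c = false →
      ∀ r < k, (runWord net w (plane r B)).testBit c = (plane r B).testBit c := by
    intro k
    induction k with
    | zero => intro _ r hr; omega
    | succ k ih =>
      intro hk r hr
      change ((Nat.rec 0 _ k : ℕ) ||| (runWord net w (plane k B) ^^^ plane k B)).testBit c = false at hk
      rw [Nat.testBit_or, Bool.or_eq_false_iff, Nat.testBit_xor] at hk
      rcases Nat.lt_succ_iff_lt_or_eq.1 hr with hlt | rfl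
      · exact ih hk.1 r hlt
      · simpa using hk.2
  have hj : wordPerm net w c < 2 ^ B := by
    by_contra hge
    have e := wordPerm_fix hV w (Nat.not_lt.1 hge)
    rw [(wordPerm net w).injective e] at hge
    exact hge hc
  refine Nat.eq_of_testBit_eq fun r => ?_
  rcases Nat.lt_or_ge r B with hr | hr
  · have := key B h r hr
    simpa [testBit_runWord hV, testBit_plane, hr, hc, hj] using this
  · rw [Nat.testBit_eq_false_of_lt (lt_of_lt_of_le hj (Nat.pow_le_pow_right (by omega) hr)),
      Nat.testBit_eq_false_of_lt (lt_of_lt_of_le hc (Nat.pow_le_pow_right (by omega) hr))]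

omit hV in
/-- A point fixed by the word is one of the listed ones. -/
theorem bit_of_cover {n c S M : ℕ} (h : Nat.beq (Nat.lor M S) (2 ^ n - 1) = true) (hc : c < n)
    (hM : M.testBit c = false) : S.testBit c = true := by
  have h' : (M ||| S).testBit c = true := by
    rw [← decide_eq_true hc, ← Nat.testBit_two_pow_sub_one n c, ← Nat.eq_of_beq_eq_true h]
    rfl
  rwa [Nat.testBit_or, hM, Bool.false_or] at h'

end CfsgLib.Recog.FiFour.Aut
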