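import Cfsg.Agent.Lib.Recog.FiFour.Aut.Data
import Cfsg.Agent.Lib.Recog.FiFour.Aut.Moved
import Cfsg.Agent.Lib.Recog.FiFour.Bound
import Cfsg.Agent.Lib.Recog.FiFour.Nets

set_option autoImplicit false
set_option maxRecDepth 20000
set_option Elab.async false

/-! Kernel checks on 306936 points (owner: helper21). -/

namespace CfsgLib.Recog.FiFour.Aut

open CfsgLib.Recog.BitPerm CfsgLib.ThreeTrans.CosetIndex
open CfsgLib.Recog.SporBound.Fi22Aut (yWord)

/-- The points moved by one of the letters of the double cover. -/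
noncomputable def movedH (L : List ℕ) : ℕ :=
  List.rec 0 (fun x _ D => Nat.lor D (movedB 19 net (signed [x]))) L

theorem h_fixed : Nat.beq (Nat.lor (movedH FiThree.hLetters) (Nat.lor 1 (Nat.shiftLeft 1 pOne)))
    (2 ^ numPts - 1) = true := by
  unfold numPts; decide +kernel

end CfsgLib.Recog.FiFour.Aut
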