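import Cfsg.Agent.Lib.Recog.FiFour.Aut.Data
import Cfsg.Agent.Lib.Recog.FiFour.Aut.Moved
import Cfsg.Agent.Lib.Recog.FiFour.Bound
import Cfsg.Agent.Lib.Recog.FiFour.Nets
import Cfsg.Agent.Lib.Recog.FiFour.Aut.RestDataY

set_option autoImplicit false
set_option maxRecDepth 20000
set_option Elab.async false

/-! Kernel checks on 306936 points (owner: helper21). -/

namespace CfsgLib.Recog.FiFour.Aut

open CfsgLib.Recog.BitPerm CfsgLib.ThreeTrans.CosetIndex
open CfsgLib.Recog.SporBound.Fi22Aut (yWord)

theorem y_step0 : coverOK (movedSeg 19 net (signed yWord) 0 4) (2 ^ numPts - 1)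
    (Nat.lor restY1 (Nat.lor 1 (Nat.lor (Nat.shiftLeft 1 pOne) (Nat.shiftLeft 1 pTwo)))) = true := by
  unfold numPts; decide +kernel

theorem y_step1 : coverOK (movedSeg 19 net (signed yWord) 4 4) restY1 restY2 = true := by decide +kernel

theorem y_step2 : coverOK (movedSeg 19 net (signed yWord) 8 4) restY2 restY3 = true := by decide +kernel

theorem y_step3 : coverOK (movedSeg 19 net (signed yWord) 12 4) restY3 restY4 = true := by decide +kernel

theorem y_step4 : coverOK (movedSeg 19 net (signed yWord) 16 3) restY4 0 = true := by decide +kernel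

theorem y_cover {c : ℕ} (hc : c < numPts) (h : (movedB 19 net (signed yWord)).testBit c = false) :
    (Nat.lor 1 (Nat.lor (Nat.shiftLeft 1 pOne) (Nat.shiftLeft 1 pTwo))).testBit c = true := by
  have r1 := cover_elim y_step1 (movedSeg_bit h 4 4 (by decide)) (cover_elim y_step2 (movedSeg_bit h 8 4 (by decide))
    (cover_elim y_step3 (movedSeg_bit h 12 4 (by decide))
      (cover_elim y_step4 (movedSeg_bit h 16 3 (by decide)) (Nat.zero_testBit c))))
  refine Bool.eq_true_of_not_eq_false fun hs => ?_
  have h0 := cover_elim y_step0 (movedSeg_bit h 0 4 (by decide)) (by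
    show (restY1 ||| _).testBit c = false
    rw [Nat.testBit_or, r1, Bool.false_or]
    exact hs)
  rw [Nat.testBit_two_pow_sub_one, decide_eq_false_iff_not] at h0
  exact h0 hc

end CfsgLib.Recog.FiFour.Aut
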