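import Cfsg.Agent.Lib.Recog.FiFour.Aut.Data
import Cfsg.Agent.Lib.Recog.FiFour.Aut.Moved
import Cfsg.Agent.Lib.Recog.FiFour.Bound
import Cfsg.Agent.Lib.Recog.FiFour.Nets
import Cfsg.Agent.Lib.Recog.FiFour.Aut.CheckLargeY
import Cfsg.Agent.Lib.Recog.FiFour.Aut.CheckLargeH
import Cfsg.Agent.Lib.Recog.FiFour.Aut.RestData

set_option autoImplicit false
set_option maxRecDepth 20000
set_option Elab.async false

/-! Kernel checks on 306936 points (owner: helper21). -/

namespace CfsgLib.Recog.FiFour.Aut

open CfsgLib.Recog.BitPerm CfsgLib.ThreeTrans.CosetIndex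
open CfsgLib.Recog.SporBound.Fi22Aut (yWord)

theorem one_maps : mapsOK net oneW 0 pOne = true := by decide +kernel

theorem two_maps : mapsOK net (signed FiThree.ga ++ oneW) 0 pTwo = true := by decide +kernel

theorem e_step0 : coverOK (movedSeg 19 net (signed FiThree.zW) 0 4) (movedB 19 net [11]) restE1 = true := by decide +kernel

theorem e_step1 : coverOK (movedSeg 19 net (signed FiThree.zW) 4 4) restE1 restE2 = true := by decide +kernel

theorem e_step2 : coverOK (movedSeg 19 net (signed FiThree.zW) 8 4) restE2 restE3 = true := by decide +kernel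

theorem e_step3 : coverOK (movedSeg 19 net (signed FiThree.zW) 12 4) restE3 0 = true := by decide +kernel

theorem e_cover {c : ℕ} (h : (movedB 19 net (signed FiThree.zW)).testBit c = false) :
    (movedB 19 net [11]).testBit c = false :=
  cover_elim e_step0 (movedSeg_bit h 0 4 (by decide)) (cover_elim e_step1 (movedSeg_bit h 4 4 (by decide))
    (cover_elim e_step2 (movedSeg_bit h 8 4 (by decide))
      (cover_elim e_step3 (movedSeg_bit h 12 4 (by decide)) (Nat.zero_testBit c))))

end CfsgLib.Recog.FiFour.Aut
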