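import Cfsg.Agent.Lib.Recog.FiFour.Action
import Cfsg.Agent.Lib.Recog.FiFour.Simple
import Cfsg.Agent.Lib.Recog.FiFour.Aut.CheckLarge
import Cfsg.Agent.Lib.Recog.FiThree.Aut.Main

set_option autoImplicit false
set_option maxRecDepth 20000
set_option linter.style.haveILetI false

/-!
Points and transpositions of Fi24 (owner: helper21).
-/

namespace CfsgLib.Recog.FiFour.Aut

open Cfsg CfsgLib.Recog.BitPerm CfsgLib.Recog.SporBound CfsgLib.ThreeTrans.CosetIndex
open CfsgLib.Recog.FiThree (zz ga hSub pt)
open CfsgLib.Recog.FiThree.Aut (za yy)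

attribute [local instance] FiThree.finite_fi23' finite_fi24

local notation "G" => Cfsg.Spor.Fi24
local notation "H" => Cfsg.Spor.Fi23

theorem one_pt : act g1 0 = pOne := act_maps one_maps

theorem two_pt : act (iota (FiThree.word ga) * g1) 0 = pTwo := by
  have h := act_maps two_maps
  rwa [word_append, ← iota_word (show ga.all (· < 10) = true by decide)] at h

theorem g_two : act (iota (FiThree.word ga)) pOne = pTwo := by
  rw [← one_pt, ← Equiv.Perm.mul_apply, ← map_mul, two_pt]

theorem iota_fix (u : H) : act (iota u) 0 = 0 := top_fix (iota_mem u)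

theorem stab_iff {g : G} : act g 0 = 0 ↔ g ∈ hTop := by
  refine ⟨fun h => ?_, top_fix⟩
  have key : ∀ (y : G) (p : ℕ), act y 0 = p → p ≠ 0 → ∀ u, (iota u * y)⁻¹ * g ∈ hTop → False := by
    intro y p hy hp u hu
    have e := top_fix hu
    rw [map_mul, Equiv.Perm.mul_apply, h, map_inv, Equiv.Perm.inv_eq_iff_eq, map_mul, Equiv.Perm.mul_apply, hy] at e
    exact hp ((act (iota u)).injective (e.symm.trans (iota_fix u).symm))
  rcases inU_all g with hg | ⟨u, hu⟩ | ⟨u, hu⟩
  · exact hg
  · exact (key g1 pOne one_pt (by decide) u hu).elim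
  · exact (key (gg 10) 1 (by rw [← word_singleton]; exact act_maps k_point) (by decide) u hu).elim

theorem act_lt (g : G) : act g 0 < numPts := by
  choose s hs using fun c : Fin numPts => exists_point c.2
  have hinj : Function.Injective fun c : Fin numPts => (QuotientGroup.mk (s c) : G ⧸ hTop) := by
    intro c c' e
    have h := QuotientGroup.eq.1 e
    refine Fin.ext ?_
    rw [← hs c, ← hs c']
    conv_rhs => rw [show s c' = s c * ((s c)⁻¹ * s c') by group, map_mul, Equiv.Perm.mul_apply, top_fix h]
  haveI : Fintype (G ⧸ hTop) := Fintype.ofFinite _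
  have hb := (Fintype.bijective_iff_injective_and_card _).2 ⟨hinj, by
    rw [← Nat.card_eq_fintype_card, ← Nat.card_eq_fintype_card (α := G ⧸ hTop), Nat.card_fin,
      ← Subgroup.index_eq_card, index_hTop, numPts_eq]⟩
  obtain ⟨c, hc⟩ := hb.surjective (QuotientGroup.mk g)
  have h := top_fix (QuotientGroup.eq.1 hc)
  have e : act g 0 = c := by
    rw [show g = s c * ((s c)⁻¹ * g) by group, map_mul, Equiv.Perm.mul_apply, h, hs]
  rw [e]
  exact c.2

theorem l_mem : gg 11 ∈ hTop := gg_mem (by decide)

theorem g1_not_comm : ¬ g1 * gg 11 = gg 11 * g1 := by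
  intro e
  obtain ⟨v, u, h⟩ := a_witness
  have c1 : ∀ x ∈ hTop, Commute (gg 11) x := fun x hx => (l_comm_h hx).symm
  have hk : Commute (gg 11) (gg 10) := by
    have hu : Commute (gg 11) (iota u) := c1 _ (iota_mem u)
    have hg : Commute (gg 11) (g1 * iota v * g1) := (Commute.mul_right (a := gg 11) e.symm (c1 _ (iota_mem v))).mul_right e.symm
    have := c1 _ h
    rw [show gg 10 = (iota u)⁻¹ * ((g1 * iota v * g1) * ((iota u * gg 10)⁻¹ * (g1 * iota v * g1))⁻¹) by group]
    exact hu.inv_right.mul_right (hg.mul_right this.inv_right)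
  have h2 : act (gg 11) (act (gg 10) 0) = act (gg 10) (act (gg 11) 0) := by
    rw [← Equiv.Perm.mul_apply, ← map_mul, hk.eq, map_mul, Equiv.Perm.mul_apply]
  have hk1 : act (gg 10) 0 = 1 := by rw [← word_singleton]; exact act_maps k_point
  have hl : act (gg 11) 1 = 3 := by
    have hm := l_moves
    simp only [Bool.and_eq_true] at hm
    rw [← word_singleton]; exact act_maps hm.1
  rw [top_fix l_mem, hk1, hl] at h2
  exact absurd h2 (by decide)

theorem comm_l_iff {g : G} : g * gg 11 = gg 11 * g ↔ act g 0 = 0 := by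
  refine ⟨fun e => stab_iff.2 ?_, fun h => l_comm_h (stab_iff.1 h)⟩
  have hl : ∀ x ∈ hTop, Commute (gg 11) x := fun x hx => (l_comm_h hx).symm
  have key : ∀ (y : G) u, (iota u * y)⁻¹ * g ∈ hTop → Commute (gg 11) y := by
    intro y u hu
    rw [show y = (iota u)⁻¹ * (g * ((iota u * y)⁻¹ * g)⁻¹) by group]
    exact (hl _ (iota_mem u)).inv_right.mul_right (Commute.mul_right (a := gg 11) e.symm (hl _ hu).inv_right)
  rcases inU_all g with hg | ⟨u, hu⟩ | ⟨u, hu⟩
  · exact hg
  · exact absurd (key _ u hu).eq.symm g1_not_comm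
  · exfalso
    have hk := (key _ u hu).eq
    have h2 : act (gg 11) (act (gg 10) 0) = act (gg 10) (act (gg 11) 0) := by
      rw [← Equiv.Perm.mul_apply, ← map_mul, hk, map_mul, Equiv.Perm.mul_apply]
    have hk1 : act (gg 10) 0 = 1 := by rw [← word_singleton]; exact act_maps k_point
    have hm := l_moves
    simp only [Bool.and_eq_true] at hm
    have hl' : act (gg 11) 1 = 3 := by rw [← word_singleton]; exact act_maps hm.1
    rw [top_fix l_mem, hk1, hl'] at h2
    exact absurd h2 (by decide)

/-- An element commutes with a transposition exactly when it fixes its point. -/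
theorem comm_conj_iff {g h : G} :
    g * (h * gg 11 * h⁻¹) = h * gg 11 * h⁻¹ * g ↔ act g (act h 0) = act h 0 := by
  have e : act (h⁻¹ * g * h) 0 = 0 ↔ act g (act h 0) = act h 0 := by
    rw [map_mul, map_mul, Equiv.Perm.mul_apply, Equiv.Perm.mul_apply, map_inv, Equiv.Perm.inv_eq_iff_eq]
  rw [← e, ← comm_l_iff]
  constructor
  · intro h1
    calc h⁻¹ * g * h * gg 11 = h⁻¹ * (g * (h * gg 11 * h⁻¹)) * h := by group
      _ = _ := by rw [h1]; group
  · intro h1
    calc g * (h * gg 11 * h⁻¹) = h * (h⁻¹ * g * h * gg 11) * h⁻¹ := by group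
      _ = _ := by rw [h1]; group

theorem conj_eq_of_pt {g h : G} (e : act g 0 = act h 0) : g * gg 11 * g⁻¹ = h * gg 11 * h⁻¹ := by
  have h1 : (h⁻¹ * g) * gg 11 = gg 11 * (h⁻¹ * g) := comm_l_iff.2 (by
    rw [map_mul, Equiv.Perm.mul_apply, e, map_inv, Equiv.Perm.inv_eq_iff_eq])
  calc g * gg 11 * g⁻¹ = h * ((h⁻¹ * g) * gg 11) * g⁻¹ := by group
    _ = _ := by rw [h1]; group

/-- The transposition of the first point of the small suborbit. -/
noncomputable def dOne : G := g1 * gg 11 * g1⁻¹

/-- The transposition of the second one. -/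
noncomputable def dTwo : G := iota (FiThree.word ga) * dOne * (iota (FiThree.word ga))⁻¹

theorem h_fix {h : H} (hh : h ∈ hSub) : act (iota h) pOne = pOne := by
  rw [← one_pt, ← Equiv.Perm.mul_apply, ← map_mul, show iota h * g1 = g1 * (g1⁻¹ * iota h * g1) by group, map_mul,
    Equiv.Perm.mul_apply, top_fix (stab_mem hh)]

theorem l_one : act (gg 11) pOne = pOne := by
  rw [← one_pt, ← Equiv.Perm.mul_apply, ← map_mul, show gg 11 * g1 = g1 * (g1⁻¹ * gg 11 * g1) by group, map_mul,
    Equiv.Perm.mul_apply, top_fix l_fix]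

theorem l_dOne : gg 11 * dOne = dOne * gg 11 := comm_conj_iff.2 (by rw [one_pt]; exact l_one)

theorem iota_zz : iota zz = gg 11 * dOne := by
  have hpar : gg 11 * dOne ∈ parity.ker := by
    rw [MonoidHom.mem_ker, dOne, map_mul, map_mul, map_mul, map_inv, mul_comm (parity g1), mul_inv_cancel_right,
      parity_gg (by decide)]
    decide
  have h0 : act (gg 11 * dOne) 0 = 0 := by
    rw [map_mul, Equiv.Perm.mul_apply, comm_l_iff.1 l_dOne.symm, top_fix l_mem]
  obtain ⟨c, hc⟩ := even_mem_range (stab_iff.1 h0) hpar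
  have hcomm : ∀ h ∈ hSub, c * h = h * c := fun h hh => iota_injective (by
    rw [map_mul, map_mul, hc]
    have c1 : Commute (iota h) (gg 11) := l_comm_h (iota_mem h)
    have c2 : Commute (iota h) dOne := comm_conj_iff.2 (by rw [one_pt]; exact h_fix hh)
    exact (c1.mul_right c2).eq.symm)
  have hmem : c ∈ hSub := by
    rw [← FiThree.centralizer_zz, Subgroup.mem_centralizer_singleton_iff]
    exact hcomm zz FiThree.zz_mem_h
  rcases FiThree.center_h ⟨c, hmem⟩ (Subgroup.mem_center_iff.2 fun h => Subtype.ext (hcomm h h.2).symm) with e | e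
  · exfalso
    have e' : c = 1 := congrArg Subtype.val e
    rw [e', map_one] at hc
    have hd : dOne = gg 11 := by
      rw [← inv_eq_of_mul_eq_one_right hc.symm]
      exact inv_eq_of_mul_eq_one_right (gg_sq 11)
    refine g1_not_comm ?_
    calc g1 * gg 11 = dOne * g1 := by rw [dOne]; group
      _ = _ := by rw [hd]
  · have e' : c = zz := congrArg Subtype.val e
    rw [← hc, e']

theorem iota_a : iota (FiThree.gg 0) = gg 11 * dTwo := by
  have hl : Commute (gg 11) (iota (FiThree.word ga)) := (l_comm_h (iota_mem _)).symm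
  rw [← FiThree.ga_zz, map_mul, map_mul, map_inv, iota_zz, dTwo]
  calc iota (FiThree.word ga) * (gg 11 * dOne) * (iota (FiThree.word ga))⁻¹
      = iota (FiThree.word ga) * gg 11 * (iota (FiThree.word ga))⁻¹ *
        (iota (FiThree.word ga) * dOne * (iota (FiThree.word ga))⁻¹) := by group
    _ = _ := by rw [← hl.eq, mul_inv_cancel_right]

theorem two_eq : dTwo = (iota (FiThree.word ga) * g1) * gg 11 * (iota (FiThree.word ga) * g1)⁻¹ := by
  rw [dTwo, dOne]; group

theorem iota_za : iota za = dTwo * dOne := by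
  have hA : dTwo * gg 11 = gg 11 * dTwo := by
    rw [two_eq]
    refine ((comm_conj_iff (g := gg 11) (h := iota (FiThree.word ga) * g1)).2 ?_).symm
    rw [two_pt, ← g_two, ← Equiv.Perm.mul_apply, ← map_mul, ← l_comm_h (iota_mem _), map_mul,
      Equiv.Perm.mul_apply, l_one]
  rw [za, map_mul, iota_a, iota_zz]
  calc gg 11 * dTwo * (gg 11 * dOne) = gg 11 * (dTwo * gg 11) * dOne := by group
    _ = gg 11 * gg 11 * dTwo * dOne := by rw [hA]; group
    _ = _ := by rw [gg_sq, one_mul]

theorem conj_l {x : ℕ} (hx : x < 10) : ∃ h : G, gg x = h * gg 11 * h⁻¹ := by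
  have step : ∀ y z : ℕ, (relWords Spor.Fi24.edges Spor.Fi24.extra gens24).contains [y, z, y, z, y, z] = true →
      (∃ h : G, gg y = h * gg 11 * h⁻¹) → ∃ h : G, gg z = h * gg 11 * h⁻¹ := by
    rintro y z he ⟨h, hy⟩
    have e := braid_of_rel he
    refine ⟨gg y * gg z * h, ?_⟩
    calc gg z = gg y * gg z * gg y * (gg z)⁻¹ * (gg y)⁻¹ := by rw [e]; group
      _ = _ := by rw [hy]; group
  have step' : ∀ y z : ℕ, ((relWords Spor.Fi24.edges Spor.Fi24.extra gens24).contains [y, z, y, z, y, z] ||
      (relWords Spor.Fi24.edges Spor.Fi24.extra gens24).contains [z, y, z, y, z, y]) = true →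
      (∃ h : G, gg y = h * gg 11 * h⁻¹) → ∃ h : G, gg z = h * gg 11 * h⁻¹ := by
    intro y z he hy
    rcases Bool.or_eq_true_iff.1 he with he | he
    · exact step y z he hy
    · obtain ⟨h, hy⟩ := hy
      have e := braid_of_rel he
      refine ⟨gg y * gg z * h, ?_⟩
      calc gg z = gg y * gg z * gg y * (gg z)⁻¹ * (gg y)⁻¹ := by rw [← e]; group
        _ = _ := by rw [hy]; group
  have k11 : ∃ h : G, gg 11 = h * gg 11 * h⁻¹ := ⟨1, by group⟩
  have k10 := step' 11 10 (by decide +kernel) k11
  have k0 := step' 10 0 (by decide +kernel) k10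
  have k1 := step' 0 1 (by decide +kernel) k0
  have k2 := step' 1 2 (by decide +kernel) k1
  have k3 := step' 2 3 (by decide +kernel) k2
  have k4 := step' 3 4 (by decide +kernel) k3
  have k7 := step' 3 7 (by decide +kernel) k3
  have k5 := step' 4 5 (by decide +kernel) k4
  have k6 := step' 5 6 (by decide +kernel) k5
  have k8 := step' 7 8 (by decide +kernel) k7
  have k9 := step' 6 9 (by decide +kernel) k6
  interval_cases x <;> assumption

theorem bit_cases {c a b : ℕ} (h : (Nat.lor 1 (Nat.lor (Nat.shiftLeft 1 a) (Nat.shiftLeft 1 b))).testBit c = true) :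
    c = 0 ∨ c = a ∨ c = b := by
  change (1 ||| (1 <<< a ||| 1 <<< b) : ℕ).testBit c = true at h
  have one : (1 : ℕ).testBit c = true → c = 0 := fun h => by
    by_contra hne
    rw [Nat.testBit_eq_false_of_lt (Nat.one_lt_two_pow hne)] at h
    exact Bool.noConfusion h
  simp only [Nat.testBit_or, Nat.one_shiftLeft, Nat.testBit_two_pow, Bool.or_eq_true, decide_eq_true_eq] at h
  rcases h with h | h | h
  · exact Or.inl (one h)
  · exact Or.inr (Or.inl h.symm)
  · exact Or.inr (Or.inr h.symm)

theorem bit_cases_two {c a : ℕ} (h : (Nat.lor 1 (Nat.shiftLeft 1 a)).testBit c = true) : c = 0 ∨ c = a := by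
  change (1 ||| 1 <<< a : ℕ).testBit c = true at h
  rcases bit_cases (a := a) (b := a) (show (1 ||| (1 <<< a ||| 1 <<< a) : ℕ).testBit c = true by rwa [Nat.or_self])
    with h | h | h
  exacts [Or.inl h, Or.inr h, Or.inr h]

theorem sub_bit {M L c : ℕ} (h : Nat.beq (Nat.lor M L) M = true) (hM : M.testBit c = false) : L.testBit c = false := by
  have h1 : (M ||| L).testBit c = false := (congrArg (fun n => n.testBit c) (Nat.eq_of_beq_eq_true h)).trans hM
  rwa [Nat.testBit_or, hM, Bool.false_or] at h1

/-- The fixed points of the element of order 11. -/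
theorem y_three {g : G} (h : act (iota yy) (act g 0) = act g 0) : act g 0 = 0 ∨ act g 0 = pOne ∨ act g 0 = pTwo := by
  rw [yy, iota_word (show SporBound.Fi22Aut.yWord.all (· < 10) = true by decide), act_word] at h
  exact bit_cases (y_cover (act_lt g) (not_movedB netValid h))

/-- The common fixed points of the double cover. -/
theorem h_two {g : G} (h : ∀ x ∈ FiThree.hLetters, act (iota (FiThree.gg x)) (act g 0) = act g 0) :
    act g 0 = 0 ∨ act g 0 = pOne := by
  refine bit_cases_two (bit_of_cover h_fixed (act_lt g) ?_)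
  have key : ∀ L : List ℕ, (∀ x ∈ L, x ∈ FiThree.hLetters) → (movedH L).testBit (act g 0) = false := by
    intro L
    induction L with
    | nil => exact fun _ => Nat.zero_testBit _
    | cons x L ih =>
      intro hL
      show (movedH L ||| movedB 19 net (signed [x])).testBit _ = false
      rw [Nat.testBit_or, ih (fun y hy => hL y (List.mem_cons_of_mem _ hy)), Bool.false_or]
      refine not_movedB netValid ?_
      have hx := hL x List.mem_cons_self
      rw [← act_word, ← iota_word (by
        rw [List.all_eq_true]; intro y hy; rw [List.mem_singleton.1 hy]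
        exact decide_eq_true ((show ∀ z ∈ FiThree.hLetters, z < 10 by decide) x hx)), FiThree.word_singleton]
      exact h x hx
  exact key _ fun x hx => hx

theorem e_sub {g : G} (h : act (iota zz) (act g 0) = act g 0) : act (gg 11) (act g 0) = act g 0 := by
  rw [zz, iota_word (show FiThree.zW.all (· < 10) = true by decide), act_word] at h
  have hlt : act g 0 < 2 ^ 19 := lt_of_lt_of_le (act_lt g) (by rw [numPts_eq]; norm_num)
  rw [← word_singleton, act_word]
  refine fix_of_not_movedB netValid hlt ?_
  have h1 := not_movedB netValid h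
  exact e_cover h1

/-- An element commuting with the product of two commuting transpositions keeps their pair of points. -/
theorem pair_one {g : G} (hg : g * iota zz = iota zz * g) : act g 0 = 0 ∨ act g 0 = pOne := by
  have hl_fix : act (gg 11) (act g 0) = act g 0 := by
    refine e_sub ?_
    rw [← Equiv.Perm.mul_apply, ← map_mul, ← hg, map_mul, Equiv.Perm.mul_apply, iota_fix]
  refine h_two fun x hx => ?_
  have hx10 : x < 10 := (show ∀ z ∈ FiThree.hLetters, z < 10 by decide) x hx
  obtain ⟨h, hh⟩ := conj_l hx10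
  have hgl : iota (FiThree.gg x) = gg x * gg 11 := iota_gg hx10
  have hxz : iota zz * gg x = gg x * iota zz := by
    have c1 : Commute (iota zz) (gg x * gg 11) := by
      rw [← hgl]
      show iota zz * iota _ = iota _ * iota zz
      rw [← map_mul, ← map_mul, FiThree.zz_comm (FiThree.gg_mem_h hx)]
    have c2 : Commute (iota zz) (gg 11) := l_comm_h (iota_mem zz)
    have := c1.mul_right c2.inv_right
    rwa [mul_inv_cancel_right] at this
  -- the point of the letter is fixed by the product, so by the transposition of the image of the base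
  have hq : act (iota zz) (act h 0) = act h 0 := comm_conj_iff.1 (by rw [← hh]; exact hxz)
  have hd : act (g * gg 11 * g⁻¹) (act h 0) = act h 0 := by
    have hq' : act (iota zz) (act (g⁻¹ * h) 0) = act (g⁻¹ * h) 0 := by
      have e : iota zz * (g⁻¹ * h) = g⁻¹ * (iota zz * h) := by
        calc iota zz * (g⁻¹ * h) = g⁻¹ * (g * iota zz) * g⁻¹ * h := by group
          _ = _ := by rw [hg]; group
      rw [← Equiv.Perm.mul_apply, ← map_mul, e, map_mul act g⁻¹ (iota zz * h), Equiv.Perm.mul_apply, map_mul act (iota zz),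
        Equiv.Perm.mul_apply, hq, map_mul, Equiv.Perm.mul_apply]
    have h2 := e_sub hq'
    rw [map_mul, map_mul, Equiv.Perm.mul_apply, Equiv.Perm.mul_apply,
      show act g⁻¹ (act h 0) = act (g⁻¹ * h) 0 by rw [map_mul, Equiv.Perm.mul_apply], h2, map_mul,
      Equiv.Perm.mul_apply, ← Equiv.Perm.mul_apply (act g), ← map_mul, mul_inv_cancel, map_one]
    rfl
  have hxd : gg x * (g * gg 11 * g⁻¹) = g * gg 11 * g⁻¹ * gg x := by
    rw [hh]; exact (comm_conj_iff.2 hd).symm
  rw [hgl, map_mul, Equiv.Perm.mul_apply, hl_fix]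
  exact comm_conj_iff.1 hxd

theorem pair_two {g : G} (hg : g * iota (FiThree.gg 0) = iota (FiThree.gg 0) * g) : act g 0 = 0 ∨ act g 0 = pTwo := by
  set a := iota (FiThree.word ga) with ha
  have he : iota (FiThree.gg 0) = a * iota zz * a⁻¹ := by rw [← FiThree.ga_zz, map_mul, map_mul, map_inv]
  rw [he] at hg
  have h1 : act (a⁻¹ * g * a) 0 = 0 ∨ act (a⁻¹ * g * a) 0 = pOne := pair_one (by
    calc a⁻¹ * g * a * iota zz = a⁻¹ * (g * (a * iota zz * a⁻¹)) * a := by group
      _ = _ := by rw [hg]; group)
  have h2 : act g 0 = act a (act (a⁻¹ * g * a) 0) := by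
    rw [← Equiv.Perm.mul_apply, ← map_mul, show a * (a⁻¹ * g * a) = g * a by group, map_mul, Equiv.Perm.mul_apply,
      ha, iota_fix]
  rcases h1 with h1 | h1
  · exact Or.inl (by rw [h2, h1, ha, iota_fix])
  · exact Or.inr (by rw [h2, h1, ha, g_two])

end CfsgLib.Recog.FiFour.Aut
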