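import Cfsg.Agent.Lib.Recog.SporBound.Fi22Aut.Data
import Cfsg.Agent.Lib.Recog.FiThree.Data

set_option autoImplicit false

/-! Words for the automorphism group of Fi24' (owner: helper21). -/

namespace CfsgLib.Recog.FiFour.Aut

/-- An element of order 23 in Fi23. -/
def xW : List ℕ := [
    0, 3, 2, 4, 1, 6, 7, 3, 7, 4, 5, 9, 4, 5, 2, 0, 1, 3, 2, 6, 7, 6, 4, 1, 2, 7, 9, 2, 4, 5, 4, 5, 9, 2, 1, 6, 5,
    7, 4, 7, 8, 5, 4, 3, 1, 6, 0, 2, 7, 2, 3, 4, 0, 5, 8]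

/-- An element of order 11 normalising it. -/
def uW : List ℕ := [
    7, 8, 3, 7, 6, 5, 4, 3, 2, 1, 0, 4, 3, 7, 6, 5, 4, 3, 2, 1, 4, 3, 7, 5, 4, 3, 2, 8, 7, 3, 4, 5, 6, 1, 9, 0, 8,
    7, 3, 2, 9, 1, 9, 7, 8, 4, 3, 2, 7, 3, 4, 5, 3, 2, 1, 5, 4, 3, 7, 2, 3, 4, 5, 6, 5, 4, 3, 2, 7, 3, 4, 5, 7, 3,
    4, 2, 3, 7, 8, 5, 4, 3, 7, 2, 3, 4, 5, 6, 5, 4, 3, 2, 7, 3, 4, 1, 5, 3, 4, 2, 3, 5, 4, 3, 7, 2, 3, 4, 5, 6, 5,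
    4, 3, 2, 7, 3, 4, 5, 3, 7, 2, 4, 3, 4, 2, 7, 3, 9, 2, 9, 0, 1, 3, 7, 2, 4, 3, 4, 2, 7, 3, 0, 4, 7, 2]

/-- Moves the base point to the first point fixed by it. -/
def taW : List ℕ := [
    2, 1, 0, 7, 5, 4, 3, 2, 1, 7, 6, 5, 4, 3, 2, 8, 7, 3, 4, 5, 6, 9]

/-- Moves the base point to the second one. -/
def tbW : List ℕ := [
    1, 7, 3, 2, 4, 3, 7, 6, 5, 4, 3, 2, 1, 0, 7, 6, 5, 4, 3, 2, 1, 4, 3, 7, 5, 4, 3, 2, 8, 7, 3, 4, 5, 6, 9]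

/-- The first fixed point. -/
def pa : ℕ := 1481

/-- The second fixed point. -/
def pb : ℕ := 20889

/-- The point of the other transposition of the small suborbit. -/
def pOne : ℕ := 303251

/-- The point of the first letter's transposition. -/
def pTwo : ℕ := 5

end CfsgLib.Recog.FiFour.Aut
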